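import Cfsg.Agent.Lib.Helper6.TCD.Fi223a.P7P0
import Cfsg.Agent.Lib.Helper6.TCD.Fi223a.P7P1
set_option autoImplicit false
namespace Cfsg.Agent.Lib.Helper6.TCD.Fi223a
noncomputable def P7 (i : Nat) : Nat := Bool.rec (P7P0N62 i) (P7P1N25 i) (Nat.ble 131072 i)
end Cfsg.Agent.Lib.Helper6.TCD.Fi223a
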