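import Cfsg.Agent.Lib.Helper6.TCD.Fi223a.P0
import Cfsg.Agent.Lib.Helper6.TCD.Fi223a.P1
import Cfsg.Agent.Lib.Helper6.TCD.Fi223a.P2
import Cfsg.Agent.Lib.Helper6.TCD.Fi223a.P3
import Cfsg.Agent.Lib.Helper6.TCD.Fi223a.P4
import Cfsg.Agent.Lib.Helper6.TCD.Fi223a.P5
import Cfsg.Agent.Lib.Helper6.TCD.Fi223a.P6
import Cfsg.Agent.Lib.Helper6.TCD.Fi223a.P7
import Cfsg.Agent.Lib.Helper6.TCD.Fi223a.P8
import Cfsg.Agent.Lib.Helper6.TCD.Fi223a.P9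
import Cfsg.Agent.Lib.Helper6.TCD.Fi223a.P10
set_option autoImplicit false
namespace Cfsg.Agent.Lib.Helper6.TCD.Fi223a
def ncol : Nat := 11
def INV : Nat := 10619144385040
def N : Nat := 185328
noncomputable def px (c p : Nat) : Nat := Nat.rec (motive := fun _ => Nat) (P0 p) (fun k0 _ => Nat.rec (motive := fun _ => Nat) (P1 p) (fun k1 _ => Nat.rec (motive := fun _ => Nat) (P2 p) (fun k2 _ => Nat.rec (motive := fun _ => Nat) (P3 p) (fun k3 _ => Nat.rec (motive := fun _ => Nat) (P4 p) (fun k4 _ => Nat.rec (motive := fun _ => Nat) (P5 p) (fun k5 _ => Nat.rec (motive := fun _ => Nat) (P6 p) (fun k6 _ => Nat.rec (motive := fun _ => Nat) (P7 p) (fun k7 _ => Nat.rec (motive := fun _ => Nat) (P8 p) (fun k8 _ => Nat.rec (motive := fun _ => Nat) (P9 p) (fun k9 _ => P10 p) k8) k7) k6) k5) k4) k3) k2) k1) k0) c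
noncomputable def R10 (p : Nat) : Nat := P9 (P9 (P9 p))
noncomputable def R11 (p : Nat) : Nat := P10 (P0 (P9 (P0 p)))
noncomputable def R12 (p : Nat) : Nat := P10 (P1 (P9 (P1 p)))
noncomputable def R13 (p : Nat) : Nat := P10 (P2 (P9 (P2 p)))
noncomputable def R14 (p : Nat) : Nat := P10 (P3 (P9 (P3 p)))
noncomputable def R15 (p : Nat) : Nat := P10 (P4 (P9 (P4 p)))
noncomputable def R16 (p : Nat) : Nat := P10 (P5 (P9 (P5 p)))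
noncomputable def R17 (p : Nat) : Nat := P10 (P6 (P9 (P6 p)))
noncomputable def R18 (p : Nat) : Nat := P10 (P7 (P9 (P7 p)))
noncomputable def R19 (p : Nat) : Nat := P10 (P8 (P9 (P8 p)))
noncomputable def R20 (p : Nat) : Nat := P1 (P0 (P1 (P0 (P1 (P0 p)))))
noncomputable def R21 (p : Nat) : Nat := P2 (P0 (P2 (P0 p)))
noncomputable def R22 (p : Nat) : Nat := P3 (P0 (P3 (P0 p)))
noncomputable def R23 (p : Nat) : Nat := P4 (P0 (P4 (P0 p)))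
noncomputable def R24 (p : Nat) : Nat := P5 (P0 (P5 (P0 p)))
noncomputable def R25 (p : Nat) : Nat := P6 (P0 (P6 (P0 p)))
noncomputable def R26 (p : Nat) : Nat := P7 (P0 (P7 (P0 p)))
noncomputable def R27 (p : Nat) : Nat := P8 (P0 (P8 (P0 p)))
noncomputable def R28 (p : Nat) : Nat := P2 (P1 (P2 (P1 (P2 (P1 p)))))
noncomputable def R29 (p : Nat) : Nat := P3 (P1 (P3 (P1 p)))
noncomputable def R30 (p : Nat) : Nat := P4 (P1 (P4 (P1 p)))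
noncomputable def R31 (p : Nat) : Nat := P5 (P1 (P5 (P1 p)))
noncomputable def R32 (p : Nat) : Nat := P6 (P1 (P6 (P1 p)))
noncomputable def R33 (p : Nat) : Nat := P7 (P1 (P7 (P1 p)))
noncomputable def R34 (p : Nat) : Nat := P8 (P1 (P8 (P1 p)))
noncomputable def R35 (p : Nat) : Nat := P3 (P2 (P3 (P2 (P3 (P2 p)))))
noncomputable def R36 (p : Nat) : Nat := P4 (P2 (P4 (P2 p)))
noncomputable def R37 (p : Nat) : Nat := P5 (P2 (P5 (P2 p)))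
noncomputable def R38 (p : Nat) : Nat := P6 (P2 (P6 (P2 p)))
noncomputable def R39 (p : Nat) : Nat := P7 (P2 (P7 (P2 p)))
noncomputable def R40 (p : Nat) : Nat := P8 (P2 (P8 (P2 p)))
noncomputable def R41 (p : Nat) : Nat := P4 (P3 (P4 (P3 (P4 (P3 p)))))
noncomputable def R42 (p : Nat) : Nat := P5 (P3 (P5 (P3 p)))
noncomputable def R43 (p : Nat) : Nat := P6 (P3 (P6 (P3 p)))
noncomputable def R44 (p : Nat) : Nat := P7 (P3 (P7 (P3 (P7 (P3 p)))))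
noncomputable def R45 (p : Nat) : Nat := P8 (P3 (P8 (P3 p)))
noncomputable def R46 (p : Nat) : Nat := P5 (P4 (P5 (P4 (P5 (P4 p)))))
noncomputable def R47 (p : Nat) : Nat := P6 (P4 (P6 (P4 p)))
noncomputable def R48 (p : Nat) : Nat := P7 (P4 (P7 (P4 p)))
noncomputable def R49 (p : Nat) : Nat := P8 (P4 (P8 (P4 p)))
noncomputable def R50 (p : Nat) : Nat := P6 (P5 (P6 (P5 (P6 (P5 p)))))
noncomputable def R51 (p : Nat) : Nat := P7 (P5 (P7 (P5 p)))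
noncomputable def R52 (p : Nat) : Nat := P8 (P5 (P8 (P5 p)))
noncomputable def R53 (p : Nat) : Nat := P7 (P6 (P7 (P6 p)))
noncomputable def R54 (p : Nat) : Nat := P8 (P6 (P8 (P6 p)))
noncomputable def R55 (p : Nat) : Nat := P8 (P7 (P8 (P7 (P8 (P7 p)))))
noncomputable def R56 (p : Nat) : Nat := P10 (P8 (P7 (P3 (P5 (P4 (P3 (P1 (P2 (P3 (P8 (P7 (P3 (P5 (P4 (P3 (P1 (P2 (P3 (P8 (P7 (P3 (P5 (P4 (P3 (P1 (P2 (P3 (P8 (P7 (P3 (P5 (P4 (P3 (P1 (P2 (P3 (P8 (P7 (P3 (P5 (P4 (P3 (P1 (P2 (P3 (P8 (P7 (P3 (P5 (P4 (P3 (P1 (P2 (P3 (P8 (P7 (P3 (P5 (P4 (P3 (P1 (P2 (P3 (P8 (P7 (P3 (P5 (P4 (P3 (P1 (P2 (P3 (P8 (P7 (P3 (P5 (P4 (P3 (P1 (P2 (P3 (P8 (P7 (P3 (P5 (P4 (P3 (P1 (P2 (P3 p))))))))))))))))))))))))))))))))))))))))))))))))))))))))))))))))))))))))))))))))))))))))))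
noncomputable def R57 (p : Nat) : Nat := P7 (P5 (P4 (P3 (P2 (P1 (P0 (P7 (P5 (P4 (P3 (P2 (P1 (P0 (P7 (P5 (P4 (P3 (P2 (P1 (P0 (P7 (P5 (P4 (P3 (P2 (P1 (P0 (P7 (P5 (P4 (P3 (P2 (P1 (P0 (P7 (P5 (P4 (P3 (P2 (P1 (P0 (P7 (P5 (P4 (P3 (P2 (P1 (P0 (P7 (P5 (P4 (P3 (P2 (P1 (P0 (P7 (P5 (P4 (P3 (P2 (P1 (P0 p))))))))))))))))))))))))))))))))))))))))))))))))))))))))))))))
noncomputable def R58 (p : Nat) : Nat := P7 (P6 (P5 (P4 (P3 (P2 (P1 (P7 (P6 (P5 (P4 (P3 (P2 (P1 (P7 (P6 (P5 (P4 (P3 (P2 (P1 (P7 (P6 (P5 (P4 (P3 (P2 (P1 (P7 (P6 (P5 (P4 (P3 (P2 (P1 (P7 (P6 (P5 (P4 (P3 (P2 (P1 (P7 (P6 (P5 (P4 (P3 (P2 (P1 (P7 (P6 (P5 (P4 (P3 (P2 (P1 (P7 (P6 (P5 (P4 (P3 (P2 (P1 p))))))))))))))))))))))))))))))))))))))))))))))))))))))))))))))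
end Cfsg.Agent.Lib.Helper6.TCD.Fi223a
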