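import Cfsg.Agent.Lib.Helper6.TC11
import Cfsg.Agent.Lib.Helper6.TCD.Fi223a.Par
set_option autoImplicit false
set_option maxRecDepth 1000000
set_option Elab.async false
open Cfsg.Agent.Lib.Helper6.TC
namespace Cfsg.Agent.Lib.Helper6.TCD.Fi223a
theorem chkR10_0 : chkFix R10 0 83333 = true := by decide +kernel
theorem chkR10_1 : chkFix R10 83333 83333 = true := by decide +kernel
theorem chkR10_2 : chkFix R10 166666 18662 = true := by decide +kernel
theorem chkR11_0 : chkFix R11 0 48503 = true := by decide +kernel
theorem chkR11_1 : chkFix R11 48503 62500 = true := by decide +kernel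
theorem chkR11_2 : chkFix R11 111003 62500 = true := by decide +kernel
theorem chkR11_3 : chkFix R11 173503 11825 = true := by decide +kernel
theorem chkR12_0 : chkFix R12 0 50675 = true := by decide +kernel
end Cfsg.Agent.Lib.Helper6.TCD.Fi223a
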