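import Cfsg.Agent.Lib.Helper6.TC11
import Cfsg.Agent.Lib.Helper6.TCD.Fi223a.Par
set_option autoImplicit false
set_option maxRecDepth 1000000
set_option Elab.async false
open Cfsg.Agent.Lib.Helper6.TC
namespace Cfsg.Agent.Lib.Helper6.TCD.Fi223a
theorem chkR12_1 : chkFix R12 50675 62500 = true := by decide +kernel
theorem chkR12_2 : chkFix R12 113175 62500 = true := by decide +kernel
theorem chkR12_3 : chkFix R12 175675 9653 = true := by decide +kernel
theorem chkR13_0 : chkFix R13 0 52847 = true := by decide +kernel
theorem chkR13_1 : chkFix R13 52847 62500 = true := by decide +kernel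
theorem chkR13_2 : chkFix R13 115347 62500 = true := by decide +kernel
theorem chkR13_3 : chkFix R13 177847 7481 = true := by decide +kernel
theorem chkR14_0 : chkFix R14 0 55019 = true := by decide +kernel
end Cfsg.Agent.Lib.Helper6.TCD.Fi223a
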