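import Cfsg.Agent.Lib.Helper6.TC11
import Cfsg.Agent.Lib.Helper6.TCD.Fi223a.Par
set_option autoImplicit false
set_option maxRecDepth 1000000
set_option Elab.async false
open Cfsg.Agent.Lib.Helper6.TC
namespace Cfsg.Agent.Lib.Helper6.TCD.Fi223a
theorem chkR29_2 : chkFix R29 89762 62500 = true := by decide +kernel
theorem chkR29_3 : chkFix R29 152262 33066 = true := by decide +kernel
theorem chkR30_0 : chkFix R30 0 29434 = true := by decide +kernel
theorem chkR30_1 : chkFix R30 29434 62500 = true := by decide +kernel
theorem chkR30_2 : chkFix R30 91934 62500 = true := by decide +kernel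
theorem chkR30_3 : chkFix R30 154434 30894 = true := by decide +kernel
theorem chkR31_0 : chkFix R31 0 31606 = true := by decide +kernel
theorem chkR31_1 : chkFix R31 31606 62500 = true := by decide +kernel
end Cfsg.Agent.Lib.Helper6.TCD.Fi223a
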