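import Cfsg.Agent.Lib.Helper6.TC11
import Cfsg.Agent.Lib.Helper6.TCD.Fi223a.Par
set_option autoImplicit false
set_option maxRecDepth 1000000
set_option Elab.async false
open Cfsg.Agent.Lib.Helper6.TC
namespace Cfsg.Agent.Lib.Helper6.TCD.Fi223a
theorem chkR31_2 : chkFix R31 94106 62500 = true := by decide +kernel
theorem chkR31_3 : chkFix R31 156606 28722 = true := by decide +kernel
theorem chkR32_0 : chkFix R32 0 33778 = true := by decide +kernel
theorem chkR32_1 : chkFix R32 33778 62500 = true := by decide +kernel
theorem chkR32_2 : chkFix R32 96278 62500 = true := by decide +kernel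
theorem chkR32_3 : chkFix R32 158778 26550 = true := by decide +kernel
theorem chkR33_0 : chkFix R33 0 35950 = true := by decide +kernel
theorem chkR33_1 : chkFix R33 35950 62500 = true := by decide +kernel
end Cfsg.Agent.Lib.Helper6.TCD.Fi223a
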