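import Cfsg.Agent.Lib.Helper6.TC11
import Cfsg.Agent.Lib.Helper6.TCD.Fi223a.Par
set_option autoImplicit false
set_option maxRecDepth 1000000
set_option Elab.async false
open Cfsg.Agent.Lib.Helper6.TC
namespace Cfsg.Agent.Lib.Helper6.TCD.Fi223a
theorem chkR33_2 : chkFix R33 98450 62500 = true := by decide +kernel
theorem chkR33_3 : chkFix R33 160950 24378 = true := by decide +kernel
theorem chkR34_0 : chkFix R34 0 38122 = true := by decide +kernel
theorem chkR34_1 : chkFix R34 38122 62500 = true := by decide +kernel
theorem chkR34_2 : chkFix R34 100622 62500 = true := by decide +kernel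
theorem chkR34_3 : chkFix R34 163122 22206 = true := by decide +kernel
theorem chkR35_0 : chkFix R35 0 26862 = true := by decide +kernel
theorem chkR35_1 : chkFix R35 26862 41666 = true := by decide +kernel
end Cfsg.Agent.Lib.Helper6.TCD.Fi223a
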