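import Cfsg.Agent.Lib.Helper6.TC11
import Cfsg.Agent.Lib.Helper6.TCD.Fi223a.Par
set_option autoImplicit false
set_option maxRecDepth 1000000
set_option Elab.async false
open Cfsg.Agent.Lib.Helper6.TC
namespace Cfsg.Agent.Lib.Helper6.TCD.Fi223a
theorem chkR35_2 : chkFix R35 68528 41666 = true := by decide +kernel
theorem chkR35_3 : chkFix R35 110194 41666 = true := by decide +kernel
theorem chkR35_4 : chkFix R35 151860 33468 = true := by decide +kernel
theorem chkR36_0 : chkFix R36 0 12298 = true := by decide +kernel
theorem chkR36_1 : chkFix R36 12298 62500 = true := by decide +kernel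
theorem chkR36_2 : chkFix R36 74798 62500 = true := by decide +kernel
theorem chkR36_3 : chkFix R36 137298 48030 = true := by decide +kernel
theorem chkR37_0 : chkFix R37 0 14470 = true := by decide +kernel
end Cfsg.Agent.Lib.Helper6.TCD.Fi223a
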