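import Cfsg.Agent.Lib.Helper6.TC11
import Cfsg.Agent.Lib.Helper6.TCD.Fi223a.Par
set_option autoImplicit false
set_option maxRecDepth 1000000
set_option Elab.async false
open Cfsg.Agent.Lib.Helper6.TC
namespace Cfsg.Agent.Lib.Helper6.TCD.Fi223a
theorem chkR37_1 : chkFix R37 14470 62500 = true := by decide +kernel
theorem chkR37_2 : chkFix R37 76970 62500 = true := by decide +kernel
theorem chkR37_3 : chkFix R37 139470 45858 = true := by decide +kernel
theorem chkR38_0 : chkFix R38 0 16642 = true := by decide +kernel
theorem chkR38_1 : chkFix R38 16642 62500 = true := by decide +kernel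
theorem chkR38_2 : chkFix R38 79142 62500 = true := by decide +kernel
theorem chkR38_3 : chkFix R38 141642 43686 = true := by decide +kernel
theorem chkR39_0 : chkFix R39 0 18814 = true := by decide +kernel
end Cfsg.Agent.Lib.Helper6.TCD.Fi223a
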