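import Cfsg.Agent.Lib.Helper6.TC11
import Cfsg.Agent.Lib.Helper6.TCD.Fi223a.Par
set_option autoImplicit false
set_option maxRecDepth 1000000
set_option Elab.async false
open Cfsg.Agent.Lib.Helper6.TC
namespace Cfsg.Agent.Lib.Helper6.TCD.Fi223a
theorem chkR39_1 : chkFix R39 18814 62500 = true := by decide +kernel
theorem chkR39_2 : chkFix R39 81314 62500 = true := by decide +kernel
theorem chkR39_3 : chkFix R39 143814 41514 = true := by decide +kernel
theorem chkR40_0 : chkFix R40 0 20986 = true := by decide +kernel
theorem chkR40_1 : chkFix R40 20986 62500 = true := by decide +kernel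
theorem chkR40_2 : chkFix R40 83486 62500 = true := by decide +kernel
theorem chkR40_3 : chkFix R40 145986 39342 = true := by decide +kernel
theorem chkR41_0 : chkFix R41 0 15438 = true := by decide +kernel
end Cfsg.Agent.Lib.Helper6.TCD.Fi223a
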