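import Cfsg.Agent.Lib.Helper6.TC11
import Cfsg.Agent.Lib.Helper6.TCD.Fi223a.Par
set_option autoImplicit false
set_option maxRecDepth 1000000
set_option Elab.async false
open Cfsg.Agent.Lib.Helper6.TC
namespace Cfsg.Agent.Lib.Helper6.TCD.Fi223a
theorem chkR41_1 : chkFix R41 15438 41666 = true := by decide +kernel
theorem chkR41_2 : chkFix R41 57104 41666 = true := by decide +kernel
theorem chkR41_3 : chkFix R41 98770 41666 = true := by decide +kernel
theorem chkR41_4 : chkFix R41 140436 41666 = true := by decide +kernel
theorem chkR41_5 : chkFix R41 182102 3226 = true := by decide +kernel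
theorem chkR42_0 : chkFix R42 0 57661 = true := by decide +kernel
theorem chkR42_1 : chkFix R42 57661 62500 = true := by decide +kernel
end Cfsg.Agent.Lib.Helper6.TCD.Fi223a
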