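import Cfsg.Agent.Lib.Helper6.TC11
import Cfsg.Agent.Lib.Helper6.TCD.Fi223a.Par
set_option autoImplicit false
set_option maxRecDepth 1000000
set_option Elab.async false
open Cfsg.Agent.Lib.Helper6.TC
namespace Cfsg.Agent.Lib.Helper6.TCD.Fi223a
theorem chkR44_2 : chkFix R44 83002 41666 = true := by decide +kernel
theorem chkR44_3 : chkFix R44 124668 41666 = true := by decide +kernel
theorem chkR44_4 : chkFix R44 166334 18994 = true := by decide +kernel
theorem chkR45_0 : chkFix R45 0 34009 = true := by decide +kernel
theorem chkR45_1 : chkFix R45 34009 62500 = true := by decide +kernel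
theorem chkR45_2 : chkFix R45 96509 62500 = true := by decide +kernel
theorem chkR45_3 : chkFix R45 159009 26319 = true := by decide +kernel
theorem chkR46_0 : chkFix R46 0 24120 = true := by decide +kernel
end Cfsg.Agent.Lib.Helper6.TCD.Fi223a
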