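import Cfsg.Agent.Lib.Helper6.TC11
import Cfsg.Agent.Lib.Helper6.TCD.Fi223a.Par
set_option autoImplicit false
set_option maxRecDepth 1000000
set_option Elab.async false
open Cfsg.Agent.Lib.Helper6.TC
namespace Cfsg.Agent.Lib.Helper6.TCD.Fi223a
theorem chkR46_1 : chkFix R46 24120 41666 = true := by decide +kernel
theorem chkR46_2 : chkFix R46 65786 41666 = true := by decide +kernel
theorem chkR46_3 : chkFix R46 107452 41666 = true := by decide +kernel
theorem chkR46_4 : chkFix R46 149118 36210 = true := by decide +kernel
theorem chkR47_0 : chkFix R47 0 8185 = true := by decide +kernel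
theorem chkR47_1 : chkFix R47 8185 62500 = true := by decide +kernel
theorem chkR47_2 : chkFix R47 70685 62500 = true := by decide +kernel
end Cfsg.Agent.Lib.Helper6.TCD.Fi223a
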