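import Cfsg.Agent.Lib.Helper6.TC11
import Cfsg.Agent.Lib.Helper6.TCD.Fi223a.Par
set_option autoImplicit false
set_option maxRecDepth 1000000
set_option Elab.async false
open Cfsg.Agent.Lib.Helper6.TC
namespace Cfsg.Agent.Lib.Helper6.TCD.Fi223a
theorem chkR14_1 : chkFix R14 55019 62500 = true := by decide +kernel
theorem chkR14_2 : chkFix R14 117519 62500 = true := by decide +kernel
theorem chkR14_3 : chkFix R14 180019 5309 = true := by decide +kernel
theorem chkR15_0 : chkFix R15 0 57191 = true := by decide +kernel
theorem chkR15_1 : chkFix R15 57191 62500 = true := by decide +kernel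
theorem chkR15_2 : chkFix R15 119691 62500 = true := by decide +kernel
theorem chkR15_3 : chkFix R15 182191 3137 = true := by decide +kernel
theorem chkR16_0 : chkFix R16 0 59363 = true := by decide +kernel
end Cfsg.Agent.Lib.Helper6.TCD.Fi223a
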