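import Cfsg.Agent.Lib.Helper6.TC11
import Cfsg.Agent.Lib.Helper6.TCD.Fi223a.Par
set_option autoImplicit false
set_option maxRecDepth 1000000
set_option Elab.async false
open Cfsg.Agent.Lib.Helper6.TC
namespace Cfsg.Agent.Lib.Helper6.TCD.Fi223a
theorem chkR47_3 : chkFix R47 133185 52143 = true := by decide +kernel
theorem chkR48_0 : chkFix R48 0 10357 = true := by decide +kernel
theorem chkR48_1 : chkFix R48 10357 62500 = true := by decide +kernel
theorem chkR48_2 : chkFix R48 72857 62500 = true := by decide +kernel
theorem chkR48_3 : chkFix R48 135357 49971 = true := by decide +kernel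
theorem chkR49_0 : chkFix R49 0 12529 = true := by decide +kernel
theorem chkR49_1 : chkFix R49 12529 62500 = true := by decide +kernel
theorem chkR49_2 : chkFix R49 75029 62500 = true := by decide +kernel
end Cfsg.Agent.Lib.Helper6.TCD.Fi223a
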