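import Cfsg.Agent.Lib.Helper6.TC11
import Cfsg.Agent.Lib.Helper6.TCD.Fi223a.Par
set_option autoImplicit false
set_option maxRecDepth 1000000
set_option Elab.async false
open Cfsg.Agent.Lib.Helper6.TC
namespace Cfsg.Agent.Lib.Helper6.TCD.Fi223a
theorem chkR49_3 : chkFix R49 137529 47799 = true := by decide +kernel
theorem chkR50_0 : chkFix R50 0 9800 = true := by decide +kernel
theorem chkR50_1 : chkFix R50 9800 41666 = true := by decide +kernel
theorem chkR50_2 : chkFix R50 51466 41666 = true := by decide +kernel
theorem chkR50_3 : chkFix R50 93132 41666 = true := by decide +kernel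
theorem chkR50_4 : chkFix R50 134798 41666 = true := by decide +kernel
theorem chkR50_5 : chkFix R50 176464 8864 = true := by decide +kernel
theorem chkR51_0 : chkFix R51 0 49204 = true := by decide +kernel
end Cfsg.Agent.Lib.Helper6.TCD.Fi223a
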