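import Cfsg.Agent.Lib.Helper6.TC11
import Cfsg.Agent.Lib.Helper6.TCD.Fi223a.Par
set_option autoImplicit false
set_option maxRecDepth 1000000
set_option Elab.async false
open Cfsg.Agent.Lib.Helper6.TC
namespace Cfsg.Agent.Lib.Helper6.TCD.Fi223a
theorem chkR51_1 : chkFix R51 49204 62500 = true := by decide +kernel
theorem chkR51_2 : chkFix R51 111704 62500 = true := by decide +kernel
theorem chkR51_3 : chkFix R51 174204 11124 = true := by decide +kernel
theorem chkR52_0 : chkFix R52 0 51376 = true := by decide +kernel
theorem chkR52_1 : chkFix R52 51376 62500 = true := by decide +kernel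
theorem chkR52_2 : chkFix R52 113876 62500 = true := by decide +kernel
theorem chkR52_3 : chkFix R52 176376 8952 = true := by decide +kernel
theorem chkR53_0 : chkFix R53 0 53548 = true := by decide +kernel
end Cfsg.Agent.Lib.Helper6.TCD.Fi223a
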