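import Cfsg.Agent.Lib.Helper6.TC11
import Cfsg.Agent.Lib.Helper6.TCD.Fi223a.Par
set_option autoImplicit false
set_option maxRecDepth 1000000
set_option Elab.async false
open Cfsg.Agent.Lib.Helper6.TC
namespace Cfsg.Agent.Lib.Helper6.TCD.Fi223a
theorem chkR53_1 : chkFix R53 53548 62500 = true := by decide +kernel
theorem chkR53_2 : chkFix R53 116048 62500 = true := by decide +kernel
theorem chkR53_3 : chkFix R53 178548 6780 = true := by decide +kernel
theorem chkR54_0 : chkFix R54 0 55720 = true := by decide +kernel
theorem chkR54_1 : chkFix R54 55720 62500 = true := by decide +kernel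
theorem chkR54_2 : chkFix R54 118220 62500 = true := by decide +kernel
theorem chkR54_3 : chkFix R54 180720 4608 = true := by decide +kernel
theorem chkR55_0 : chkFix R55 0 38594 = true := by decide +kernel
end Cfsg.Agent.Lib.Helper6.TCD.Fi223a
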