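import Cfsg.Agent.Lib.Helper6.TC11
import Cfsg.Agent.Lib.Helper6.TCD.Fi223a.Par
set_option autoImplicit false
set_option maxRecDepth 1000000
set_option Elab.async false
open Cfsg.Agent.Lib.Helper6.TC
namespace Cfsg.Agent.Lib.Helper6.TCD.Fi223a
theorem chkR55_1 : chkFix R55 38594 41666 = true := by decide +kernel
theorem chkR55_2 : chkFix R55 80260 41666 = true := by decide +kernel
theorem chkR55_3 : chkFix R55 121926 41666 = true := by decide +kernel
theorem chkR55_4 : chkFix R55 163592 21736 = true := by decide +kernel
theorem chkR56_0 : chkFix R56 0 1314 = true := by decide +kernel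
theorem chkR56_1 : chkFix R56 1314 2747 = true := by decide +kernel
theorem chkR56_2 : chkFix R56 4061 2747 = true := by decide +kernel
end Cfsg.Agent.Lib.Helper6.TCD.Fi223a
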