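import Cfsg.Agent.Lib.Helper6.TC11
import Cfsg.Agent.Lib.Helper6.TCD.Fi223a.Par
set_option autoImplicit false
set_option maxRecDepth 1000000
set_option Elab.async false
open Cfsg.Agent.Lib.Helper6.TC
namespace Cfsg.Agent.Lib.Helper6.TCD.Fi223a
theorem chkR56_3 : chkFix R56 6808 2747 = true := by decide +kernel
theorem chkR56_4 : chkFix R56 9555 2747 = true := by decide +kernel
theorem chkR56_5 : chkFix R56 12302 2747 = true := by decide +kernel
theorem chkR56_6 : chkFix R56 15049 2747 = true := by decide +kernel
theorem chkR56_7 : chkFix R56 17796 2747 = true := by decide +kernel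
theorem chkR56_8 : chkFix R56 20543 2747 = true := by decide +kernel
end Cfsg.Agent.Lib.Helper6.TCD.Fi223a
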