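import Cfsg.Agent.Lib.Helper6.TC11
import Cfsg.Agent.Lib.Helper6.TCD.Fi223a.Par
set_option autoImplicit false
set_option maxRecDepth 1000000
set_option Elab.async false
open Cfsg.Agent.Lib.Helper6.TC
namespace Cfsg.Agent.Lib.Helper6.TCD.Fi223a
theorem chkR56_15 : chkFix R56 39772 2747 = true := by decide +kernel
theorem chkR56_16 : chkFix R56 42519 2747 = true := by decide +kernel
theorem chkR56_17 : chkFix R56 45266 2747 = true := by decide +kernel
theorem chkR56_18 : chkFix R56 48013 2747 = true := by decide +kernel
theorem chkR56_19 : chkFix R56 50760 2747 = true := by decide +kernel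
theorem chkR56_20 : chkFix R56 53507 2747 = true := by decide +kernel
end Cfsg.Agent.Lib.Helper6.TCD.Fi223a
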