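import Cfsg.Agent.Lib.Helper6.TC11
import Cfsg.Agent.Lib.Helper6.TCD.Fi223a.Par
set_option autoImplicit false
set_option maxRecDepth 1000000
set_option Elab.async false
open Cfsg.Agent.Lib.Helper6.TC
namespace Cfsg.Agent.Lib.Helper6.TCD.Fi223a
theorem chkR56_27 : chkFix R56 72736 2747 = true := by decide +kernel
theorem chkR56_28 : chkFix R56 75483 2747 = true := by decide +kernel
theorem chkR56_29 : chkFix R56 78230 2747 = true := by decide +kernel
theorem chkR56_30 : chkFix R56 80977 2747 = true := by decide +kernel
theorem chkR56_31 : chkFix R56 83724 2747 = true := by decide +kernel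
theorem chkR56_32 : chkFix R56 86471 2747 = true := by decide +kernel
end Cfsg.Agent.Lib.Helper6.TCD.Fi223a
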