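import Cfsg.Agent.Lib.Helper6.TC11
import Cfsg.Agent.Lib.Helper6.TCD.Fi223a.Par
set_option autoImplicit false
set_option maxRecDepth 1000000
set_option Elab.async false
open Cfsg.Agent.Lib.Helper6.TC
namespace Cfsg.Agent.Lib.Helper6.TCD.Fi223a
theorem chkR16_1 : chkFix R16 59363 62500 = true := by decide +kernel
theorem chkR16_2 : chkFix R16 121863 62500 = true := by decide +kernel
theorem chkR16_3 : chkFix R16 184363 965 = true := by decide +kernel
theorem chkR17_0 : chkFix R17 0 61535 = true := by decide +kernel
theorem chkR17_1 : chkFix R17 61535 62500 = true := by decide +kernel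
theorem chkR17_2 : chkFix R17 124035 61293 = true := by decide +kernel
theorem chkR18_0 : chkFix R18 0 1207 = true := by decide +kernel
theorem chkR18_1 : chkFix R18 1207 62500 = true := by decide +kernel
end Cfsg.Agent.Lib.Helper6.TCD.Fi223a
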