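import Cfsg.Agent.Lib.Helper6.TC11
import Cfsg.Agent.Lib.Helper6.TCD.Fi223a.Par
set_option autoImplicit false
set_option maxRecDepth 1000000
set_option Elab.async false
open Cfsg.Agent.Lib.Helper6.TC
namespace Cfsg.Agent.Lib.Helper6.TCD.Fi223a
theorem chkR56_57 : chkFix R56 155146 2747 = true := by decide +kernel
theorem chkR56_58 : chkFix R56 157893 2747 = true := by decide +kernel
theorem chkR56_59 : chkFix R56 160640 2747 = true := by decide +kernel
theorem chkR56_60 : chkFix R56 163387 2747 = true := by decide +kernel
theorem chkR56_61 : chkFix R56 166134 2747 = true := by decide +kernel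
theorem chkR56_62 : chkFix R56 168881 2747 = true := by decide +kernel
end Cfsg.Agent.Lib.Helper6.TCD.Fi223a
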