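import Cfsg.Agent.Lib.Helper6.TC11
import Cfsg.Agent.Lib.Helper6.TCD.Fi223a.Par
set_option autoImplicit false
set_option maxRecDepth 1000000
set_option Elab.async false
open Cfsg.Agent.Lib.Helper6.TC
namespace Cfsg.Agent.Lib.Helper6.TCD.Fi223a
theorem chkR57_1 : chkFix R57 3968 3968 = true := by decide +kernel
theorem chkR57_2 : chkFix R57 7936 3968 = true := by decide +kernel
theorem chkR57_3 : chkFix R57 11904 3968 = true := by decide +kernel
theorem chkR57_4 : chkFix R57 15872 3968 = true := by decide +kernel
theorem chkR57_5 : chkFix R57 19840 3968 = true := by decide +kernel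
theorem chkR57_6 : chkFix R57 23808 3968 = true := by decide +kernel
end Cfsg.Agent.Lib.Helper6.TCD.Fi223a
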