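import Cfsg.Agent.Lib.Helper6.TC11
import Cfsg.Agent.Lib.Helper6.TCD.Fi223a.Par
set_option autoImplicit false
set_option maxRecDepth 1000000
set_option Elab.async false
open Cfsg.Agent.Lib.Helper6.TC
namespace Cfsg.Agent.Lib.Helper6.TCD.Fi223a
theorem chkR57_13 : chkFix R57 51584 3968 = true := by decide +kernel
theorem chkR57_14 : chkFix R57 55552 3968 = true := by decide +kernel
theorem chkR57_15 : chkFix R57 59520 3968 = true := by decide +kernel
theorem chkR57_16 : chkFix R57 63488 3968 = true := by decide +kernel
theorem chkR57_17 : chkFix R57 67456 3968 = true := by decide +kernel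
theorem chkR57_18 : chkFix R57 71424 3968 = true := by decide +kernel
end Cfsg.Agent.Lib.Helper6.TCD.Fi223a
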