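import Cfsg.Agent.Lib.Helper6.TC11
import Cfsg.Agent.Lib.Helper6.TCD.Fi223a.Par
set_option autoImplicit false
set_option maxRecDepth 1000000
set_option Elab.async false
open Cfsg.Agent.Lib.Helper6.TC
namespace Cfsg.Agent.Lib.Helper6.TCD.Fi223a
theorem chkR57_19 : chkFix R57 75392 3968 = true := by decide +kernel
theorem chkR57_20 : chkFix R57 79360 3968 = true := by decide +kernel
theorem chkR57_21 : chkFix R57 83328 3968 = true := by decide +kernel
theorem chkR57_22 : chkFix R57 87296 3968 = true := by decide +kernel
theorem chkR57_23 : chkFix R57 91264 3968 = true := by decide +kernel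
theorem chkR57_24 : chkFix R57 95232 3968 = true := by decide +kernel
end Cfsg.Agent.Lib.Helper6.TCD.Fi223a
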