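import Cfsg.Agent.Lib.Helper6.TC11
import Cfsg.Agent.Lib.Helper6.TCD.Fi223a.Par
set_option autoImplicit false
set_option maxRecDepth 1000000
set_option Elab.async false
open Cfsg.Agent.Lib.Helper6.TC
namespace Cfsg.Agent.Lib.Helper6.TCD.Fi223a
theorem chkR18_2 : chkFix R18 63707 62500 = true := by decide +kernel
theorem chkR18_3 : chkFix R18 126207 59121 = true := by decide +kernel
theorem chkR19_0 : chkFix R19 0 3379 = true := by decide +kernel
theorem chkR19_1 : chkFix R19 3379 62500 = true := by decide +kernel
theorem chkR19_2 : chkFix R19 65879 62500 = true := by decide +kernel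
theorem chkR19_3 : chkFix R19 128379 56949 = true := by decide +kernel
theorem chkR20_0 : chkFix R20 0 3700 = true := by decide +kernel
theorem chkR20_1 : chkFix R20 3700 41666 = true := by decide +kernel
end Cfsg.Agent.Lib.Helper6.TCD.Fi223a
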