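import Cfsg.Agent.Lib.Helper6.TC11
import Cfsg.Agent.Lib.Helper6.TCD.Fi223a.Par
set_option autoImplicit false
set_option maxRecDepth 1000000
set_option Elab.async false
open Cfsg.Agent.Lib.Helper6.TC
namespace Cfsg.Agent.Lib.Helper6.TCD.Fi223a
theorem chkR57_31 : chkFix R57 123008 3968 = true := by decide +kernel
theorem chkR57_32 : chkFix R57 126976 3968 = true := by decide +kernel
theorem chkR57_33 : chkFix R57 130944 3968 = true := by decide +kernel
theorem chkR57_34 : chkFix R57 134912 3968 = true := by decide +kernel
theorem chkR57_35 : chkFix R57 138880 3968 = true := by decide +kernel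
theorem chkR57_36 : chkFix R57 142848 3968 = true := by decide +kernel
end Cfsg.Agent.Lib.Helper6.TCD.Fi223a
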