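import Cfsg.Agent.Lib.Helper6.TC11
import Cfsg.Agent.Lib.Helper6.TCD.Fi223a.Par
set_option autoImplicit false
set_option maxRecDepth 1000000
set_option Elab.async false
open Cfsg.Agent.Lib.Helper6.TC
namespace Cfsg.Agent.Lib.Helper6.TCD.Fi223a
theorem chkR57_37 : chkFix R57 146816 3968 = true := by decide +kernel
theorem chkR57_38 : chkFix R57 150784 3968 = true := by decide +kernel
theorem chkR57_39 : chkFix R57 154752 3968 = true := by decide +kernel
theorem chkR57_40 : chkFix R57 158720 3968 = true := by decide +kernel
theorem chkR57_41 : chkFix R57 162688 3968 = true := by decide +kernel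
theorem chkR57_42 : chkFix R57 166656 3968 = true := by decide +kernel
end Cfsg.Agent.Lib.Helper6.TCD.Fi223a
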