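import Cfsg.Agent.Lib.Helper6.TC11
import Cfsg.Agent.Lib.Helper6.TCD.Fi223a.Par
set_option autoImplicit false
set_option maxRecDepth 1000000
set_option Elab.async false
open Cfsg.Agent.Lib.Helper6.TC
namespace Cfsg.Agent.Lib.Helper6.TCD.Fi223a
theorem chkR57_43 : chkFix R57 170624 3968 = true := by decide +kernel
theorem chkR57_44 : chkFix R57 174592 3968 = true := by decide +kernel
theorem chkR57_45 : chkFix R57 178560 3968 = true := by decide +kernel
theorem chkR57_46 : chkFix R57 182528 2800 = true := by decide +kernel
theorem chkR58_0 : chkFix R58 0 1168 = true := by decide +kernel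
theorem chkR58_1 : chkFix R58 1168 3968 = true := by decide +kernel
theorem chkR58_2 : chkFix R58 5136 3968 = true := by decide +kernel
end Cfsg.Agent.Lib.Helper6.TCD.Fi223a
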