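import Cfsg.Agent.Lib.Helper6.TC11
import Cfsg.Agent.Lib.Helper6.TCD.Fi223a.Par
set_option autoImplicit false
set_option maxRecDepth 1000000
set_option Elab.async false
open Cfsg.Agent.Lib.Helper6.TC
namespace Cfsg.Agent.Lib.Helper6.TCD.Fi223a
theorem chkR58_15 : chkFix R58 56720 3968 = true := by decide +kernel
theorem chkR58_16 : chkFix R58 60688 3968 = true := by decide +kernel
theorem chkR58_17 : chkFix R58 64656 3968 = true := by decide +kernel
theorem chkR58_18 : chkFix R58 68624 3968 = true := by decide +kernel
theorem chkR58_19 : chkFix R58 72592 3968 = true := by decide +kernel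
theorem chkR58_20 : chkFix R58 76560 3968 = true := by decide +kernel
end Cfsg.Agent.Lib.Helper6.TCD.Fi223a
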