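import Cfsg.Agent.Lib.Helper6.TC11
import Cfsg.Agent.Lib.Helper6.TCD.Fi223a.Par
set_option autoImplicit false
set_option maxRecDepth 1000000
set_option Elab.async false
open Cfsg.Agent.Lib.Helper6.TC
namespace Cfsg.Agent.Lib.Helper6.TCD.Fi223a
theorem chkR58_33 : chkFix R58 128144 3968 = true := by decide +kernel
theorem chkR58_34 : chkFix R58 132112 3968 = true := by decide +kernel
theorem chkR58_35 : chkFix R58 136080 3968 = true := by decide +kernel
theorem chkR58_36 : chkFix R58 140048 3968 = true := by decide +kernel
theorem chkR58_37 : chkFix R58 144016 3968 = true := by decide +kernel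
theorem chkR58_38 : chkFix R58 147984 3968 = true := by decide +kernel
end Cfsg.Agent.Lib.Helper6.TCD.Fi223a
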