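import Cfsg.Agent.Lib.Helper6.TC11
import Cfsg.Agent.Lib.Helper6.TCD.Fi223a.Par
set_option autoImplicit false
set_option maxRecDepth 1000000
set_option Elab.async false
open Cfsg.Agent.Lib.Helper6.TC
namespace Cfsg.Agent.Lib.Helper6.TCD.Fi223a
theorem chkR20_2 : chkFix R20 45366 41666 = true := by decide +kernel
theorem chkR20_3 : chkFix R20 87032 41666 = true := by decide +kernel
theorem chkR20_4 : chkFix R20 128698 41666 = true := by decide +kernel
theorem chkR20_5 : chkFix R20 170364 14964 = true := by decide +kernel
theorem chkR21_0 : chkFix R21 0 40054 = true := by decide +kernel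
theorem chkR21_1 : chkFix R21 40054 62500 = true := by decide +kernel
theorem chkR21_2 : chkFix R21 102554 62500 = true := by decide +kernel
end Cfsg.Agent.Lib.Helper6.TCD.Fi223a
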