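import Cfsg.Agent.Lib.Helper6.TC11
import Cfsg.Agent.Lib.Helper6.TCD.Fi223a.Par
set_option autoImplicit false
set_option maxRecDepth 1000000
set_option Elab.async false
open Cfsg.Agent.Lib.Helper6.TC
namespace Cfsg.Agent.Lib.Helper6.TCD.Fi223a
theorem chkR58_39 : chkFix R58 151952 3968 = true := by decide +kernel
theorem chkR58_40 : chkFix R58 155920 3968 = true := by decide +kernel
theorem chkR58_41 : chkFix R58 159888 3968 = true := by decide +kernel
theorem chkR58_42 : chkFix R58 163856 3968 = true := by decide +kernel
theorem chkR58_43 : chkFix R58 167824 3968 = true := by decide +kernel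
theorem chkR58_44 : chkFix R58 171792 3968 = true := by decide +kernel
end Cfsg.Agent.Lib.Helper6.TCD.Fi223a
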