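import Cfsg.Agent.Lib.Helper6.TC11
import Cfsg.Agent.Lib.Helper6.TCD.Fi223a.Par
set_option autoImplicit false
set_option maxRecDepth 1000000
set_option Elab.async false
open Cfsg.Agent.Lib.Helper6.TC
namespace Cfsg.Agent.Lib.Helper6.TCD.Fi223a
theorem chkR58_45 : chkFix R58 175760 3968 = true := by decide +kernel
theorem chkR58_46 : chkFix R58 179728 3968 = true := by decide +kernel
theorem chkR58_47 : chkFix R58 183696 1632 = true := by decide +kernel
end Cfsg.Agent.Lib.Helper6.TCD.Fi223a
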