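import Cfsg.Agent.Lib.Helper6.TC11
import Cfsg.Agent.Lib.Helper6.TCD.Fi223a.Par
set_option autoImplicit false
set_option maxRecDepth 1000000
set_option Elab.async false
open Cfsg.Agent.Lib.Helper6.TC
namespace Cfsg.Agent.Lib.Helper6.TCD.Fi223a
theorem chkR21_3 : chkFix R21 165054 20274 = true := by decide +kernel
theorem chkR22_0 : chkFix R22 0 42226 = true := by decide +kernel
theorem chkR22_1 : chkFix R22 42226 62500 = true := by decide +kernel
theorem chkR22_2 : chkFix R22 104726 62500 = true := by decide +kernel
theorem chkR22_3 : chkFix R22 167226 18102 = true := by decide +kernel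
theorem chkR23_0 : chkFix R23 0 44398 = true := by decide +kernel
theorem chkR23_1 : chkFix R23 44398 62500 = true := by decide +kernel
theorem chkR23_2 : chkFix R23 106898 62500 = true := by decide +kernel
end Cfsg.Agent.Lib.Helper6.TCD.Fi223a
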