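import Cfsg.Agent.Lib.Helper6.TC11
import Cfsg.Agent.Lib.Helper6.TCD.Fi223a.Par
set_option autoImplicit false
set_option maxRecDepth 1000000
set_option Elab.async false
open Cfsg.Agent.Lib.Helper6.TC
namespace Cfsg.Agent.Lib.Helper6.TCD.Fi223a
theorem chkR23_3 : chkFix R23 169398 15930 = true := by decide +kernel
theorem chkR24_0 : chkFix R24 0 46570 = true := by decide +kernel
theorem chkR24_1 : chkFix R24 46570 62500 = true := by decide +kernel
theorem chkR24_2 : chkFix R24 109070 62500 = true := by decide +kernel
theorem chkR24_3 : chkFix R24 171570 13758 = true := by decide +kernel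
theorem chkR25_0 : chkFix R25 0 48742 = true := by decide +kernel
theorem chkR25_1 : chkFix R25 48742 62500 = true := by decide +kernel
theorem chkR25_2 : chkFix R25 111242 62500 = true := by decide +kernel
end Cfsg.Agent.Lib.Helper6.TCD.Fi223a
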