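import Cfsg.Agent.Lib.Helper6.TC11
import Cfsg.Agent.Lib.Helper6.TCD.Fi223a.Par
set_option autoImplicit false
set_option maxRecDepth 1000000
set_option Elab.async false
open Cfsg.Agent.Lib.Helper6.TC
namespace Cfsg.Agent.Lib.Helper6.TCD.Fi223a
theorem chkR27_3 : chkFix R27 178086 7242 = true := by decide +kernel
theorem chkR28_0 : chkFix R28 0 36838 = true := by decide +kernel
theorem chkR28_1 : chkFix R28 36838 41666 = true := by decide +kernel
theorem chkR28_2 : chkFix R28 78504 41666 = true := by decide +kernel
theorem chkR28_3 : chkFix R28 120170 41666 = true := by decide +kernel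
theorem chkR28_4 : chkFix R28 161836 23492 = true := by decide +kernel
theorem chkR29_0 : chkFix R29 0 27262 = true := by decide +kernel
theorem chkR29_1 : chkFix R29 27262 62500 = true := by decide +kernel
end Cfsg.Agent.Lib.Helper6.TCD.Fi223a
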