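import Cfsg.Agent.Lib.Helper6.TCD.Fi223a.CPa
import Cfsg.Agent.Lib.Helper6.TCD.Fi223a.CR0
import Cfsg.Agent.Lib.Helper6.TCD.Fi223a.CR1
import Cfsg.Agent.Lib.Helper6.TCD.Fi223a.CR2
import Cfsg.Agent.Lib.Helper6.TCD.Fi223a.CR3
import Cfsg.Agent.Lib.Helper6.TCD.Fi223a.CR4
import Cfsg.Agent.Lib.Helper6.TCD.Fi223a.CR5
import Cfsg.Agent.Lib.Helper6.TCD.Fi223a.CR6
import Cfsg.Agent.Lib.Helper6.TCD.Fi223a.CR7
import Cfsg.Agent.Lib.Helper6.TCD.Fi223a.CR8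
import Cfsg.Agent.Lib.Helper6.TCD.Fi223a.CR9
import Cfsg.Agent.Lib.Helper6.TCD.Fi223a.CR10
import Cfsg.Agent.Lib.Helper6.TCD.Fi223a.CR11
import Cfsg.Agent.Lib.Helper6.TCD.Fi223a.CR12
import Cfsg.Agent.Lib.Helper6.TCD.Fi223a.CR13
import Cfsg.Agent.Lib.Helper6.TCD.Fi223a.CR14
import Cfsg.Agent.Lib.Helper6.TCD.Fi223a.CR15
import Cfsg.Agent.Lib.Helper6.TCD.Fi223a.CR16
import Cfsg.Agent.Lib.Helper6.TCD.Fi223a.CR17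
import Cfsg.Agent.Lib.Helper6.TCD.Fi223a.CR18
import Cfsg.Agent.Lib.Helper6.TCD.Fi223a.CR19
import Cfsg.Agent.Lib.Helper6.TCD.Fi223a.CR20
import Cfsg.Agent.Lib.Helper6.TCD.Fi223a.CR21
import Cfsg.Agent.Lib.Helper6.TCD.Fi223a.CR22
import Cfsg.Agent.Lib.Helper6.TCD.Fi223a.CR23
import Cfsg.Agent.Lib.Helper6.TCD.Fi223a.CR24
import Cfsg.Agent.Lib.Helper6.TCD.Fi223a.CR25
import Cfsg.Agent.Lib.Helper6.TCD.Fi223a.CR26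
import Cfsg.Agent.Lib.Helper6.TCD.Fi223a.CR27
import Cfsg.Agent.Lib.Helper6.TCD.Fi223a.CR28
import Cfsg.Agent.Lib.Helper6.TCD.Fi223a.CR29
import Cfsg.Agent.Lib.Helper6.TCD.Fi223a.CR30
import Cfsg.Agent.Lib.Helper6.TCD.Fi223a.CR31
import Cfsg.Agent.Lib.Helper6.TCD.Fi223a.CR32
import Cfsg.Agent.Lib.Helper6.TCD.Fi223a.CR33
import Cfsg.Agent.Lib.Helper6.TCD.Fi223a.CR34
import Cfsg.Agent.Lib.Helper6.TCD.Fi223a.CR35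
import Cfsg.Agent.Lib.Helper6.TCD.Fi223a.CR36
import Cfsg.Agent.Lib.Helper6.TCD.Fi223a.CR37
import Cfsg.Agent.Lib.Helper6.TCD.Fi223a.CR38
import Cfsg.Agent.Lib.Helper6.TCD.Fi223a.CR39
import Cfsg.Agent.Lib.Helper6.TCD.Fi223a.CR40
import Cfsg.Agent.Lib.Helper6.TCD.Fi223a.CR41
import Cfsg.Agent.Lib.Helper6.TCD.Fi223a.CR42
import Cfsg.Agent.Lib.Helper6.TCD.Fi223a.CR43
import Cfsg.Agent.Lib.Helper6.TCD.Fi223a.CR44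
import Cfsg.Agent.Lib.Helper6.TCD.Fi223a.CR45
import Cfsg.Agent.Lib.Helper6.TCD.Fi223a.CR46
import Cfsg.Agent.Lib.Helper6.TCD.Fi223a.CR47
import Cfsg.Agent.Lib.Helper6.TCD.Fi223a.CR48
import Cfsg.Agent.Lib.Helper6.TCD.Fi223a.CR49
import Cfsg.Agent.Lib.Helper6.TCD.Fi223a.CR50
import Cfsg.Agent.Lib.Helper6.TCD.Fi223a.CR51
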