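import Cfsg.Agent.Lib.Helper6.TC11
import Cfsg.Agent.Lib.Helper6.TCD.Fi223a.Par
set_option autoImplicit false
set_option maxRecDepth 1000000
set_option Elab.async false
open Cfsg.Agent.Lib.Helper6.TC
namespace Cfsg.Agent.Lib.Helper6.TCD.Fi223a
theorem chkR42_2 : chkFix R42 120161 62500 = true := by decide +kernel
theorem chkR42_3 : chkFix R42 182661 2667 = true := by decide +kernel
theorem chkR43_0 : chkFix R43 0 59833 = true := by decide +kernel
theorem chkR43_1 : chkFix R43 59833 62500 = true := by decide +kernel
theorem chkR43_2 : chkFix R43 122333 62500 = true := by decide +kernel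
theorem chkR43_3 : chkFix R43 184833 495 = true := by decide +kernel
theorem chkR44_0 : chkFix R44 0 41336 = true := by decide +kernel
theorem chkR44_1 : chkFix R44 41336 41666 = true := by decide +kernel
end Cfsg.Agent.Lib.Helper6.TCD.Fi223a
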