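import Cfsg.Agent.Lib.Helper6.TC11
import Cfsg.Agent.Lib.Helper6.TCD.Fi223a.Par
set_option autoImplicit false
set_option maxRecDepth 1000000
set_option Elab.async false
open Cfsg.Agent.Lib.Helper6.TC
namespace Cfsg.Agent.Lib.Helper6.TCD.Fi223a
theorem chkR25_3 : chkFix R25 173742 11586 = true := by decide +kernel
theorem chkR26_0 : chkFix R26 0 50914 = true := by decide +kernel
theorem chkR26_1 : chkFix R26 50914 62500 = true := by decide +kernel
theorem chkR26_2 : chkFix R26 113414 62500 = true := by decide +kernel
theorem chkR26_3 : chkFix R26 175914 9414 = true := by decide +kernel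
theorem chkR27_0 : chkFix R27 0 53086 = true := by decide +kernel
theorem chkR27_1 : chkFix R27 53086 62500 = true := by decide +kernel
theorem chkR27_2 : chkFix R27 115586 62500 = true := by decide +kernel
end Cfsg.Agent.Lib.Helper6.TCD.Fi223a
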